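import Groth.Agent.H83.Nodal.Frame
import Mathlib.Data.Set.Card
import Mathlib.Algebra.MvPolynomial.Funext
import Mathlib.FieldTheory.IsAlgClosed.Basic

/-!
# At most six lines through a double point of an irreducible cubic surface

* `exists_eval_ne_zero`: an irreducible cubic does not contain a plane;
* `encard_le_six`.
-/

set_option autoImplicit false
set_option linter.unusedSectionVars false

universe u

open MvPolynomial

namespace Groth.Agent.H83.Nodal

open Groth.Agent.H83.Cubic

variable {k : Type u} [Field k] [CharZero k]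

/-- Polynomial functions on `k^4`. -/
def PolyFun (g : (Fin 4 → k) → k) : Prop := ∃ P : MvPolynomial (Fin 4) k, ∀ x, eval x P = g x

theorem PolyFun.add {g h : (Fin 4 → k) → k} (hg : PolyFun g) (hh : PolyFun h) :
    PolyFun (fun x => g x + h x) := by
  obtain ⟨P, hP⟩ := hg; obtain ⟨Q, hQ⟩ := hh
  exact ⟨P + Q, fun x => by simp [hP, hQ]⟩

theorem PolyFun.mul {g h : (Fin 4 → k) → k} (hg : PolyFun g) (hh : PolyFun h) :
    PolyFun (fun x => g x * h x) := by
  obtain ⟨P, hP⟩ := hg; obtain ⟨Q, hQ⟩ := hh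
  exact ⟨P * Q, fun x => by simp [hP, hQ]⟩

theorem polyFun_const (c : k) : PolyFun (fun _ : Fin 4 → k => c) := ⟨C c, fun x => by simp⟩

theorem eq_sum_single (x : Fin 4 → k) : x = ∑ i, x i • (Pi.single i 1 : Fin 4 → k) := by
  funext j
  simp [Pi.single_apply]

theorem polyFun_linear (φ : (Fin 4 → k) →ₗ[k] k) : PolyFun (fun x => φ x) := by
  refine ⟨∑ i, C (φ (Pi.single i 1)) * X i, fun x => ?_⟩
  conv_rhs => rw [eq_sum_single x]
  simp [map_sum, mul_comm]

theorem polyFun_quad (B : (Fin 4 → k) →ₗ[k] (Fin 4 → k) →ₗ[k] k) : PolyFun (fun x => B x x) := by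
  have h : ∀ x, B x x = x 0 * B (Pi.single 0 1) x + x 1 * B (Pi.single 1 1) x +
      x 2 * B (Pi.single 2 1) x + x 3 * B (Pi.single 3 1) x := fun x => by
    conv_lhs => arg 1; rw [show B x = B (∑ i, x i • Pi.single i 1) by rw [← eq_sum_single x]]
    simp [Fin.sum_univ_four]
  have hm : ∀ i, PolyFun (fun x : Fin 4 → k => x i * B (Pi.single i 1) x) := fun i =>
    (polyFun_linear (LinearMap.proj i)).mul (polyFun_linear _)
  obtain ⟨P, hP⟩ := (((hm 0).add (hm 1)).add (hm 2)).add (hm 3)
  exact ⟨P, fun x => (hP x).trans (h x).symm⟩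

theorem eq_zero_of_unit {P : MvPolynomial (Fin 4) k} (hu : IsUnit P) (x : Fin 4 → k) :
    eval x P ≠ 0 :=
  (hu.map (eval x)).ne_zero

/-- An irreducible polynomial is not a product of two functions vanishing somewhere. -/
theorem not_product {F : MvPolynomial (Fin 4) k} (hirr : Irreducible F) {g h : (Fin 4 → k) → k}
    (hg : PolyFun g) (hh : PolyFun h) {x y : Fin 4 → k} (hgx : g x = 0) (hhy : h y = 0)
    (heq : ∀ z, eval z F = g z * h z) : False := by
  obtain ⟨P, hP⟩ := hg; obtain ⟨Q, hQ⟩ := hh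
  have : Infinite k := Infinite.of_injective (fun n : ℕ => (n : k)) Nat.cast_injective
  have hF : F = P * Q := MvPolynomial.funext fun z => by rw [map_mul, hP, hQ, heq]
  rcases hirr.isUnit_or_isUnit hF with hu | hu
  · exact eq_zero_of_unit hu x (by rw [hP, hgx])
  · exact eq_zero_of_unit hu y (by rw [hQ, hhy])

variable {f : MvPolynomial (Fin 4) k}
  {T : (Fin 4 → k) →ₗ[k] (Fin 4 → k) →ₗ[k] (Fin 4 → k) →ₗ[k] k}

/-- An irreducible cubic surface contains no plane. -/
theorem exists_eval_ne_zero (h : IsPolar f T) (hirr : Irreducible f)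
    {H : Submodule k (Fin 4 → k)} (hH : Module.finrank k ↥H = 3) :
    ∃ u ∈ H, eval u f ≠ 0 := by
  by_contra hc
  push Not at hc
  obtain ⟨φ, hφ, hle⟩ := Submodule.exists_le_ker_of_lt_top H (lt_top_iff_ne_top.2 fun htop => by
    rw [htop, finrank_top, Module.finrank_fintype_fun_eq_card, Fintype.card_fin] at hH; omega)
  have hker : LinearMap.ker φ = H := by
    refine (Submodule.eq_of_le_of_finrank_le hle ?_).symm
    have h' := Module.Dual.finrank_ker_add_one_of_ne_zero hφ
    rw [Module.finrank_fintype_fun_eq_card, Fintype.card_fin] at h'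
    omega
  obtain ⟨e, he⟩ := exists_apply_eq_one hφ
  let π : (Fin 4 → k) →ₗ[k] (Fin 4 → k) := LinearMap.id - φ.smulRight e
  have hπ : ∀ x, eval (π x) f = 0 := fun x => hc _ (hker ▸ LinearMap.mem_ker.2 (by simp [π, he]))
  refine not_product hirr (polyFun_linear φ)
    (h := fun x => (3 : k) * ((T.flip.compl₁₂ LinearMap.id LinearMap.id) (π x) e (π x)) +
      φ x * (3 * T (π x) e e + φ x * eval e f))
    (PolyFun.add ?_ ?_) (x := 0) (y := 0) (map_zero φ) (by simp) fun z => ?_
  · obtain ⟨P, hP⟩ := polyFun_quad (((T.flip e)).compl₁₂ π π)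
    exact ⟨C 3 * P, fun x => by simp [hP, h.symm₁ e (π x) (π x), h.symm₂ (π x) e (π x)]⟩
  · exact (polyFun_linear φ).mul (((polyFun_const 3).mul
      (polyFun_linear (((T.flip e).flip e).comp π))).add ((polyFun_linear φ).mul (polyFun_const _)))
  · have hz : z = π z + φ z • e := by simp [π]
    conv_lhs => rw [hz]
    rw [h.eval_add_smul, hπ]
    simp only [LinearMap.compl₁₂_apply, LinearMap.flip_apply, LinearMap.id_coe, id_eq,
      h.symm₁ e (π z) (π z), h.symm₂ (π z) e (π z)]
    ring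

variable {a : Fin 4 → k}

/-- The lines through `a`. -/
def linesThrough (f : MvPolynomial (Fin 4) k) (a : Fin 4 → k) : Set (Submodule k (Fin 4 → k)) :=
  {U | a ∈ U ∧ Module.finrank k ↥U = 2 ∧ ∀ u ∈ U, eval u f = 0}

theorem eval_comb (h : IsPolar f T) (hS : ∀ y, T a a y = 0) (x : Fin 4 → k) (c b : k) :
    eval (c • a + b • x) f = 3 * c * b ^ 2 * T a x x + b ^ 3 * eval x f := by
  simp only [h.eval_eq, map_add, map_smul, LinearMap.add_apply, LinearMap.smul_apply, smul_eq_mul,
    hS, h.symm₁ x a a, h.symm₂ a x a, h.symm₁ x a x, h.symm₂ x x a]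
  ring

theorem exists_direction (h : IsPolar f T) (ha : a ≠ 0) {U : Submodule k (Fin 4 → k)}
    (hU : U ∈ linesThrough f a) : ∃ x ∈ U, x ∉ Submodule.span k {a} ∧ T a x x = 0 ∧ eval x f = 0 := by
  obtain ⟨x, hxU, hx⟩ : ∃ x ∈ U, x ∉ Submodule.span k {a} := by
    by_contra hc
    push Not at hc
    have := Submodule.finrank_mono (hc : U ≤ Submodule.span k {a})
    rw [finrank_span_singleton ha, hU.2.1] at this
    omega
  exact ⟨x, hxU, hx, h.eq_zero_of_eval_eq_zero hU.2.2 hU.1 hxU hxU, hU.2.2 x hxU⟩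

/-- A line through `a` and a direction `c a + b g`. -/
theorem line_eq {U : Submodule k (Fin 4 → k)} (haU : a ∈ U) (hU : Module.finrank k ↥U = 2)
    {g : Fin 4 → k} (hg : g ∉ Submodule.span k {a}) (ha : a ≠ 0) {c b : k} (hb : b ≠ 0)
    (hx : c • a + b • g ∈ U) : U = Submodule.span k {a, g} := by
  have hgU : g ∈ U := by
    have : b • g ∈ U := by simpa using U.sub_mem hx (U.smul_mem c haU)
    simpa [smul_smul, hb] using U.smul_mem b⁻¹ this
  refine (Submodule.eq_of_le_of_finrank_le
    (Submodule.span_le.2 (Set.insert_subset_iff.2 ⟨haU, Set.singleton_subset_iff.2 hgU⟩)) ?_).symm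
  have hlt : Submodule.span k {a} < Submodule.span k {a, g} :=
    lt_of_le_of_ne (Submodule.span_mono (by simp)) fun he => hg (he ▸ Submodule.subset_span (by simp))
  have := Submodule.finrank_lt_finrank_of_lt hlt
  rw [finrank_span_singleton ha] at this
  omega

variable [IsAlgClosed k] (h : IsPolar f T) (hirr : Irreducible f) (ha : a ≠ 0)
  (hS : ∀ y, T a a y = 0)

include h hirr ha hS in
/-- At most three lines through `a` lie in a plane where the tangent cone vanishes. -/
theorem encard_plane_le {H : Submodule k (Fin 4 → k)} (hH : Module.finrank k ↥H = 3) (haH : a ∈ H)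
    (hB : ∀ x ∈ H, T a x x = 0) : {U ∈ linesThrough f a | U ≤ H}.encard ≤ 3 := by
  classical
  obtain ⟨u, huH, hu⟩ := exists_eval_ne_zero h hirr hH
  have hfa : eval a f = 0 := by rw [h.eval_eq, hS]
  have hua : u ∉ Submodule.span k {a} := fun hm => by
    obtain ⟨c, rfl⟩ := Submodule.mem_span_singleton.1 hm
    rw [h.smul_eval, hfa, mul_zero] at hu; exact hu rfl
  obtain ⟨q, hqH, hq⟩ : ∃ q ∈ H, q ∉ Submodule.span k {a, u} := by
    by_contra hc
    push Not at hc
    have h1 := Submodule.finrank_mono (hc : H ≤ Submodule.span k {a, u})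
    have h2 := finrank_range_le_card (R := k) ![a, u]
    rw [Set.finrank, Matrix.range_cons_cons_empty, Fintype.card_fin] at h2
    omega
  have hspan : ∀ x ∈ H, ∃ c α β : k, x = c • a + α • q + β • u := by
    intro x hx
    have hlt : Submodule.span k {a, u} < Submodule.span k {q, a, u} :=
      lt_of_le_of_ne (Submodule.span_mono (by simp)) fun he =>
        hq (he ▸ Submodule.subset_span (by simp))
    have hlt' : Submodule.span k {a} < Submodule.span k {a, u} :=
      lt_of_le_of_ne (Submodule.span_mono (by simp)) fun he =>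
        hua (he ▸ Submodule.subset_span (by simp))
    have h1 := Submodule.finrank_lt_finrank_of_lt hlt
    have h2 := Submodule.finrank_lt_finrank_of_lt hlt'
    rw [finrank_span_singleton ha] at h2
    have he : Submodule.span k {q, a, u} = H := Submodule.eq_of_le_of_finrank_le
      (Submodule.span_le.2 (Set.insert_subset_iff.2 ⟨hqH,
        Set.insert_subset_iff.2 ⟨haH, Set.singleton_subset_iff.2 huH⟩⟩)) (by omega)
    rw [← he] at hx
    obtain ⟨α, r, hr, rfl⟩ := Submodule.mem_span_insert.1 hx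
    obtain ⟨c, β, rfl⟩ := Submodule.mem_span_pair.1 hr
    exact ⟨c, α, β, by abel⟩
  set P : Polynomial k := Polynomial.C (eval q f) + Polynomial.C (3 * T q q u) * Polynomial.X +
    Polynomial.C (3 * T q u u) * Polynomial.X ^ 2 + Polynomial.C (eval u f) * Polynomial.X ^ 3
  have hPe : ∀ t, P.eval t = eval (q + t • u) f := fun t => by
    rw [h.eval_add_smul]; simp [P]; ring
  have hP0 : P ≠ 0 := fun h0 => hu (by
    simpa [P, Polynomial.coeff_X, -map_add, -map_mul] using congrArg (fun Q => Q.coeff 3) h0)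
  have hdeg : P.natDegree ≤ 3 := by simp only [P]; compute_degree
  refine le_trans (Set.encard_le_encard (t := (fun t => Submodule.span k {a, q + t • u}) ''
    (P.roots.toFinset : Set k)) ?_) ?_
  · rintro U ⟨hU, hUH⟩
    obtain ⟨x, hxU, hx, hxB, hxf⟩ := exists_direction h ha hU
    obtain ⟨c, α, β, rfl⟩ := hspan x (hUH hxU)
    have hα : α ≠ 0 := by
      rintro rfl
      rw [zero_smul, add_zero] at hxB hxf hx
      rw [eval_comb h hS, hB u huH, mul_zero, zero_add, mul_eq_zero, or_iff_left hu,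
        pow_eq_zero_iff (by norm_num)] at hxf
      rw [hxf, zero_smul, add_zero] at hx
      exact hx (Submodule.smul_mem _ _ (Submodule.mem_span_singleton_self a))
    have hx' : c • a + α • q + β • u = c • a + α • (q + (β / α) • u) := by
      rw [smul_add, smul_smul, mul_div_cancel₀ _ hα, add_assoc]
    rw [hx'] at hxU hxf
    refine ⟨β / α, ?_, (line_eq hU.1 hU.2.1 ?_ ha hα hxU).symm⟩
    · rw [Finset.mem_coe, Multiset.mem_toFinset, Polynomial.mem_roots hP0, Polynomial.IsRoot.def,
        hPe]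
      rw [eval_comb h hS, hB _ (H.add_mem hqH (H.smul_mem _ huH)), mul_zero, zero_add,
        mul_eq_zero, or_iff_right (pow_ne_zero 3 hα)] at hxf
      exact hxf
    · intro hm
      obtain ⟨d, hd⟩ := Submodule.mem_span_singleton.1 hm
      exact hq (Submodule.mem_span_pair.2 ⟨d, -(β / α), by rw [hd]; module⟩)
  · refine (Set.encard_image_le _ _).trans ?_
    rw [Set.encard_coe_eq_coe_finsetCard]
    exact_mod_cast ((Multiset.toFinset_card_le _).trans (Polynomial.card_roots' P)).trans hdeg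

include h hirr ha hS in
/-- The bound for a tangent cone of rank three. -/
theorem encard_le_six_node (hN : IsNode T a) : (linesThrough f a).encard ≤ 6 := by
  classical
  obtain ⟨e, he, hee⟩ := exists_isotropic h hN
  obtain ⟨e0, e1, β, F⟩ := exists_frame h hN he hee
  obtain ⟨t₀, ht₀⟩ : ∃ t, (Frame.sextic T e0 e1 e).eval t ≠ 0 := by
    by_contra hc
    push Not at hc
    have h0 : Frame.sextic T e0 e1 e = 0 :=
      Polynomial.funext fun t => by rw [hc t, Polynomial.eval_zero]
    have hcf : ∀ i, (Frame.sextic T e0 e1 e).coeff i = 0 := fun i => by rw [h0, Polynomial.coeff_zero]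
    have c0 : T e0 e0 e0 = 0 := by
      simpa [Frame.sextic, Polynomial.coeff_X, -map_add, -map_mul] using hcf 0
    have c1 : T e0 e0 e1 = 0 := by
      simpa [Frame.sextic, Polynomial.coeff_X, -map_add, -map_mul] using hcf 1
    have c2 : 3 * T e0 e1 e1 + 3 * T e0 e0 e = 0 := by
      simpa [Frame.sextic, Polynomial.coeff_X, -map_add, -map_mul] using hcf 2
    have c3 : T e1 e1 e1 + 6 * T e0 e1 e = 0 := by
      simpa [Frame.sextic, Polynomial.coeff_X, -map_add, -map_mul] using hcf 3
    have c4 : 3 * T e1 e1 e + 3 * T e0 e e = 0 := by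
      simpa [Frame.sextic, Polynomial.coeff_X, -map_add, -map_mul] using hcf 4
    have c5 : T e1 e e = 0 := by
      simpa [Frame.sextic, Polynomial.coeff_X, -map_add, -map_mul] using hcf 5
    have c6 : T e e e = 0 := by
      simpa [Frame.sextic, Polynomial.coeff_X, -map_add, -map_mul] using hcf 6
    obtain ⟨φ, hφ, hle⟩ := Submodule.exists_le_ker_of_lt_top (Submodule.span k (Set.range ![e0, e1, e]))
      (lt_top_iff_ne_top.2 fun htop => by
        have h' := finrank_range_le_card (R := k) ![e0, e1, e]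
        rw [Set.finrank, htop, finrank_top, Module.finrank_fintype_fun_eq_card] at h'
        simp at h')
    have z0 : φ e0 = 0 := hle (Submodule.subset_span ⟨0, rfl⟩)
    have z1 : φ e1 = 0 := hle (Submodule.subset_span ⟨1, rfl⟩)
    have z2 : φ e = 0 := hle (Submodule.subset_span ⟨2, rfl⟩)
    have hφa : φ a ≠ 0 := fun hz => hφ (LinearMap.ext fun x => by
      obtain ⟨A, b, c, d, rfl⟩ := F.span x
      simp [z0, z1, z2, hz])
    let L : (Fin 4 → k) →ₗ[k] k := (-6 * β / φ a) • φ + (3 * T e0 e1 e1 / β) • T a e +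
      (-(T e1 e1 e1) / (2 * β)) • T a e1 + (3 * T e1 e1 e / β) • T a e0
    refine not_product hirr (g := fun x => (-1 / (2 * β)) * T a x x)
      ((polyFun_const _).mul (polyFun_quad (T a))) (polyFun_linear L) (x := 0) (y := 0)
      (by simp) (map_zero L) fun z => ?_
    obtain ⟨A, b, c, d, rfl⟩ := F.span z
    have hL : L (A • a + b • e0 + c • e1 + d • e) =
        -6 * β * A + 3 * T e0 e1 e1 * b + T e1 e1 e1 * c + 3 * T e1 e1 e * d := by
      have := F.hβ
      simp [L, z0, z1, z2, h.symm₂ a e a, h.symm₂ a e1 a, h.symm₂ a e0 a, hS, h.symm₂ a e e0,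
        h.symm₂ a e e1, h.symm₂ a e1 e0, F.b00, F.b01, F.b02, F.b11, F.b12, F.b22]
      field_simp
    have hx0 : eval (b • e0 + c • e1 + d • e) f =
        (c * c - b * d) * (3 * T e0 e1 e1 * b + T e1 e1 e1 * c + 3 * T e1 e1 e * d) := by
      rw [h.eval_eq]
      simp only [map_add, map_smul, LinearMap.add_apply, LinearMap.smul_apply, smul_eq_mul,
        h.symm₁ e1 e0, h.symm₁ e e0, h.symm₁ e e1, h.symm₂ e0 e1 e0, h.symm₂ e0 e e0,
        h.symm₂ e0 e e1, h.symm₂ e1 e1 e0, h.symm₂ e1 e e0, h.symm₂ e1 e e1, h.symm₂ e e e0,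
        h.symm₂ e e e1, c0, c1, c5, c6]
      linear_combination b ^ 2 * d * c2 + b * c * d * c3 + b * d ^ 2 * c4
    rw [hL, F.B_comb h hS]
    have := eval_comb h hS (b • e0 + c • e1 + d • e) A 1
    have hB := F.B_comb h hS 0 b c d 0 b c d
    simp only [zero_smul, zero_add] at hB
    rw [one_smul, one_pow, mul_one, one_pow, one_mul, hB, hx0, ← add_assoc, ← add_assoc] at this
    rw [this]
    have := F.hβ
    field_simp
    ring
  rw [Frame.eval_sextic h, h.eval_eq] at ht₀
  obtain ⟨g0, g1, β', F'⟩ := exists_frame h hN (F.gam_notMem t₀)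
    (by rw [F.B_gam h hS]; ring)
  set g2 := Frame.gam e0 e1 e t₀
  have hP0 : Frame.sextic T g0 g1 g2 ≠ 0 := fun h0 => by
    have := Frame.natDegree_sextic (T := T) (e0 := g0) (e1 := g1) ht₀
    simp [h0] at this
  refine le_trans (Set.encard_le_encard (t := (fun t => Submodule.span k {a, Frame.gam g0 g1 g2 t}) ''
    ((Frame.sextic T g0 g1 g2).roots.toFinset : Set k)) ?_) ?_
  · intro U hU
    obtain ⟨x, hxU, hx, hxB, hxf⟩ := exists_direction h ha hU
    rcases F'.exists_param h hS hxB with ⟨c, d, rfl⟩ | ⟨t, c, b, hb, rfl⟩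
    · exfalso
      rw [eval_comb h hS, F'.b22, mul_zero, zero_add, h.eval_eq, mul_eq_zero,
        or_iff_left ht₀, pow_eq_zero_iff (by norm_num)] at hxf
      rw [hxf, zero_smul, add_zero] at hx
      exact hx (Submodule.smul_mem _ _ (Submodule.mem_span_singleton_self a))
    · refine ⟨t, ?_, (line_eq hU.1 hU.2.1 (F'.gam_notMem t) ha hb hxU).symm⟩
      rw [Finset.mem_coe, Multiset.mem_toFinset, Polynomial.mem_roots hP0, Polynomial.IsRoot.def,
        Frame.eval_sextic h]
      rw [eval_comb h hS, F'.B_gam h hS, sub_self] at hxf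
      simpa [hb] using hxf
  · refine (Set.encard_image_le _ _).trans ?_
    rw [Set.encard_coe_eq_coe_finsetCard]
    exact_mod_cast ((Multiset.toFinset_card_le _).trans (Polynomial.card_roots' _)).trans
      (Frame.natDegree_sextic_le g0 g1 g2)

include h hirr ha hS in
/-- At most six lines pass through a double point. -/
theorem encard_le_six (hne : ∃ x y, T a x y ≠ 0) : (linesThrough f a).encard ≤ 6 := by
  classical
  by_cases hrad : ∀ x, (∀ y, T a x y = 0) → x ∈ Submodule.span k {a}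
  · exact encard_le_six_node h hirr ha hS ⟨ha, hS, hrad⟩
  push Not at hrad
  obtain ⟨r, hr0, hr⟩ := hrad
  set R : Submodule k (Fin 4 → k) := LinearMap.ker (T a)
  have hmemR : ∀ {x}, x ∈ R → ∀ y, T a x y = 0 := fun hx y => by
    rw [LinearMap.mem_ker.1 hx]; rfl
  have haR : a ∈ R := LinearMap.mem_ker.2 (LinearMap.ext fun y => hS y)
  have hR2 : 2 ≤ Module.finrank k ↥R := by
    have hlt : Submodule.span k {a} < R := lt_of_le_of_ne
      (Submodule.span_le.2 (Set.singleton_subset_iff.2 haR))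
      fun he => hr (he ▸ LinearMap.mem_ker.2 (LinearMap.ext fun y => hr0 y))
    have := Submodule.finrank_lt_finrank_of_lt hlt
    rw [finrank_span_singleton ha] at this
    omega
  obtain ⟨W, hW⟩ := R.exists_isCompl
  have hdim := Submodule.finrank_add_eq_of_isCompl hW
  rw [Module.finrank_fintype_fun_eq_card, Fintype.card_fin] at hdim
  have hWR : ∀ w ∈ W, (∀ y, T a w y = 0) → w = 0 := fun w hw hy =>
    Submodule.disjoint_def.1 hW.disjoint w (LinearMap.mem_ker.2 (LinearMap.ext fun y => hy y)) hw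
  have hdec : ∀ x, ∃ ρ ∈ R, ∃ w ∈ W, x = ρ + w := fun x => by
    obtain ⟨ρ, hρ, w, hw, e⟩ := Submodule.mem_sup.1
      (hW.sup_eq_top ▸ Submodule.mem_top : x ∈ R ⊔ W)
    exact ⟨ρ, hρ, w, hw, e.symm⟩
  have hBR : ∀ ρ ∈ R, ∀ z, T a z ρ = 0 := fun ρ hρ z => by rw [h.symm₂]; exact hmemR hρ z
  have hB : ∀ ρ ∈ R, ∀ w, T a (ρ + w) (ρ + w) = T a w w := fun ρ hρ w => by
    simp [hmemR hρ, hBR ρ hρ]
  obtain ⟨H₁, H₂, h1, h2, hcov⟩ : ∃ H₁ H₂ : Submodule k (Fin 4 → k),
      (Module.finrank k ↥H₁ = 3 ∧ a ∈ H₁ ∧ ∀ x ∈ H₁, T a x x = 0) ∧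
      (Module.finrank k ↥H₂ = 3 ∧ a ∈ H₂ ∧ ∀ x ∈ H₂, T a x x = 0) ∧
      ∀ x, T a x x = 0 → x ∈ H₁ ∨ x ∈ H₂ := by
    by_cases hW1 : Module.finrank k ↥W ≤ 1
    · have hR : Module.finrank k ↥R = 3 := by
        have hne1 : R ≠ ⊤ := fun htop => by
          obtain ⟨x, y, hxy⟩ := hne
          exact hxy (hmemR (htop ▸ Submodule.mem_top : x ∈ R) y)
        have := Submodule.finrank_lt hne1
        rw [Module.finrank_fintype_fun_eq_card, Fintype.card_fin] at this
        omega
      refine ⟨R, R, ⟨hR, haR, fun x hx => hmemR hx x⟩, ⟨hR, haR, fun x hx => hmemR hx x⟩,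
        fun x hx => Or.inl ?_⟩
      obtain ⟨w₀, hw₀, hspan⟩ := finrank_eq_one_iff'.1 (show Module.finrank k ↥W = 1 by omega)
      obtain ⟨ρ, hρ, w, hw, rfl⟩ := hdec x
      obtain ⟨c, hc⟩ := hspan ⟨w, hw⟩
      obtain rfl : c • (w₀ : Fin 4 → k) = w := congrArg Subtype.val hc
      have hne0 : T a (w₀ : Fin 4 → k) w₀ ≠ 0 := fun h0 => hw₀ (Subtype.ext (hWR _ w₀.2 fun y => by
        obtain ⟨ρ', hρ', w', hw', rfl⟩ := hdec y
        obtain ⟨c', hc'⟩ := hspan ⟨w', hw'⟩
        obtain rfl : c' • (w₀ : Fin 4 → k) = w' := congrArg Subtype.val hc'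
        simp [hBR ρ' hρ', h0]))
      rw [hB ρ hρ] at hx
      have : c = 0 := by simpa [hne0] using hx
      simpa [this] using hρ
    · obtain ⟨q₁, q₂, m₁, m₂, hind⟩ := exists_indep_of_two_le (U := W) (by omega)
      obtain ⟨c₁, c₂, hc, he⟩ := exists_zero_quadratic (T a q₁ q₁) (2 * T a q₁ q₂) (T a q₂ q₂)
      set v₁ := c₁ • q₁ + c₂ • q₂
      have hv₁W : v₁ ∈ W := W.add_mem (W.smul_mem _ m₁) (W.smul_mem _ m₂)
      have hv₁0 : v₁ ≠ 0 := fun h0 => by
        obtain ⟨h1, h2⟩ := hind c₁ c₂ h0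
        rcases hc with hh | hh <;> contradiction
      have hB1 : T a v₁ v₁ = 0 := by
        simp only [v₁, map_add, map_smul, LinearMap.add_apply, LinearMap.smul_apply, smul_eq_mul,
          h.symm₂ a q₂ q₁]
        linear_combination he
      obtain ⟨y, hy⟩ := exists_apply_eq_one (φ := T a v₁) fun h0 =>
        hv₁0 (hWR v₁ hv₁W fun y => by rw [h0]; rfl)
      obtain ⟨ρ, hρ, v, hvW, rfl⟩ := hdec y
      rw [map_add, hBR ρ hρ, zero_add] at hy
      set v₂ := v + (-(T a v v) / 2) • v₁
      have hv₂W : v₂ ∈ W := W.add_mem hvW (W.smul_mem _ hv₁W)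
      have h12 : T a v₁ v₂ = 1 := by simp [v₂, hy, hB1]
      have hB2 : T a v₂ v₂ = 0 := by
        simp only [v₂, map_add, map_smul, LinearMap.add_apply, LinearMap.smul_apply, smul_eq_mul,
          hy, hB1, h.symm₂ a v v₁]
        ring
      have hW2 : Module.finrank k ↥W = 2 := by omega
      have hli : LinearIndependent k ![v₁, v₂] := LinearIndependent.pair_iff.2 fun s t e => by
        have h' : ∀ z, T a (s • v₁ + t • v₂) z = 0 := fun z => by simp [e]
        have hs : s = 0 := by simpa [hB2, h12] using h' v₂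
        exact ⟨hs, by simpa [hB1, h.symm₂ a v₂ v₁, h12, hs] using h' v₁⟩
      have hWspan : Submodule.span k {v₁, v₂} = W := Submodule.eq_of_le_of_finrank_le
        (Submodule.span_le.2 (Set.insert_subset_iff.2 ⟨hv₁W, Set.singleton_subset_iff.2 hv₂W⟩))
        (by
          have := finrank_span_eq_card hli
          rw [Matrix.range_cons_cons_empty, Fintype.card_fin] at this
          omega)
      have hside : ∀ v, v ∈ W → v ≠ 0 → T a v v = 0 →
          Module.finrank k ↥(R ⊔ Submodule.span k {v}) = 3 ∧ a ∈ R ⊔ Submodule.span k {v} ∧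
          ∀ x ∈ R ⊔ Submodule.span k {v}, T a x x = 0 := by
        intro v hv hv0 hvv
        refine ⟨?_, Submodule.mem_sup_left haR, fun x hx => ?_⟩
        · have h' := Submodule.finrank_sup_add_finrank_inf_eq R (Submodule.span k {v})
          have hd : R ⊓ Submodule.span k {v} = ⊥ := disjoint_iff.1 (hW.disjoint.mono_right
            (Submodule.span_le.2 (Set.singleton_subset_iff.2 hv)))
          rw [hd, finrank_bot, finrank_span_singleton hv0] at h'
          omega
        · obtain ⟨ρ', hρ', z, hz, rfl⟩ := Submodule.mem_sup.1 hx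
          obtain ⟨c, rfl⟩ := Submodule.mem_span_singleton.1 hz
          rw [hB ρ' hρ']; simp [hvv]
      have hv₂0 : v₂ ≠ 0 := fun h0 => by rw [h0, map_zero] at h12; exact zero_ne_one h12
      refine ⟨R ⊔ Submodule.span k {v₁}, R ⊔ Submodule.span k {v₂}, hside v₁ hv₁W hv₁0 hB1,
        hside v₂ hv₂W hv₂0 hB2, fun x hx => ?_⟩
      obtain ⟨ρ', hρ', w, hw, rfl⟩ := hdec x
      rw [← hWspan] at hw
      obtain ⟨s, t, rfl⟩ := Submodule.mem_span_pair.1 hw
      rw [hB ρ' hρ'] at hx
      simp [hB1, hB2, h12, h.symm₂ a v₂ v₁] at hx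
      rcases mul_eq_zero.1 (show s * t = 0 by linear_combination hx / 2) with hs | ht
      · exact Or.inr (Submodule.mem_sup.2 ⟨ρ', hρ', t • v₂,
          Submodule.smul_mem _ _ (Submodule.mem_span_singleton_self _), by simp [hs]⟩)
      · exact Or.inl (Submodule.mem_sup.2 ⟨ρ', hρ', s • v₁,
          Submodule.smul_mem _ _ (Submodule.mem_span_singleton_self _), by simp [ht]⟩)
  refine le_trans (Set.encard_le_encard (t := {U ∈ linesThrough f a | U ≤ H₁} ∪
    {U ∈ linesThrough f a | U ≤ H₂}) ?_) ((Set.encard_union_le _ _).trans ?_)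
  · intro U hU
    have hz : ∀ x ∈ U, T a x x = 0 := fun x hx =>
      h.eq_zero_of_eval_eq_zero hU.2.2 hU.1 hx hx
    by_contra hc
    simp only [Set.mem_union, Set.mem_sep_iff, hU, true_and, not_or, SetLike.not_le_iff_exists] at hc
    obtain ⟨⟨x, hx, hx1⟩, ⟨y, hy, hy2⟩⟩ := hc
    have hx2 : x ∈ H₂ := (hcov x (hz x hx)).resolve_left hx1
    have hy1 : y ∈ H₁ := (hcov y (hz y hy)).resolve_right hy2
    rcases hcov (x + y) (hz _ (U.add_mem hx hy)) with hh | hh
    · exact hx1 (by simpa using H₁.sub_mem hh hy1)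
    · exact hy2 (by simpa using H₂.sub_mem hh hx2)
  · calc _ ≤ (3 : ℕ∞) + 3 := add_le_add (encard_plane_le h hirr ha hS h1.1 h1.2.1 h1.2.2)
          (encard_plane_le h hirr ha hS h2.1 h2.2.1 h2.2.2)
      _ = 6 := rfl

end Groth.Agent.H83.Nodal
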